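import Cfsg.Agent.Lib.QuadCount.Involutions

/-!
2-groups of class two whose squares lie in a central elementary subgroup: few involutions force a small group.
-/

set_option autoImplicit false
set_option linter.unusedSectionVars false

namespace Cfsg.Agent.Lib.InvolutionBound

open scoped commutatorElement Classical
open Subgroup

universe u

variable {G : Type u} [Group G] [Finite G]

/-- A sum of a sign homomorphism is the order or zero. -/
theorem sum_sign {H : Type*} [Group H] [Fintype H] (f : H → ℤ) (h1 : f 1 = 1)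
    (hf : ∀ a b, f (a * b) = f a * f b) :
    ∑ a, f a = 0 ∨ ∑ a, f a = (Fintype.card H : ℤ) := by
  by_cases h : ∀ a, f a = 1
  · right; simp [h]
  · left
    push Not at h
    obtain ⟨a, ha⟩ := h
    have e : ∑ b, f b = f a * ∑ b, f b := by
      rw [Finset.mul_sum, ← Equiv.sum_comp (Equiv.mulLeft a)]
      exact Finset.sum_congr rfl fun b _ => hf a b
    rcases mul_eq_zero.mp (show (f a - 1) * ∑ b, f b = 0 by rw [sub_mul, one_mul, ← e, sub_self]) with h | h
    · exact absurd (by linarith) ha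
    · exact h

/-- Adjoining an element of a central elementary subgroup. -/
theorem card_insert (K : Subgroup G) {a : G} (hac : a ∈ center G) (ha2 : a * a = 1) (haK : a ∉ K) :
    ∃ L : Subgroup G, (∀ x, x ∈ L ↔ x ∈ K ∨ a * x ∈ K) ∧ Nat.card L = 2 * Nat.card K := by
  have hc : ∀ x, x * a = a * x := fun x => mem_center_iff.mp hac x
  let L : Subgroup G :=
    { carrier := {x | x ∈ K ∨ a * x ∈ K}
      one_mem' := Or.inl K.one_mem
      mul_mem' := fun {x y} hx hy => by
        rcases hx with hx | hx <;> rcases hy with hy | hy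
        · exact Or.inl (K.mul_mem hx hy)
        · refine Or.inr ?_
          have := K.mul_mem hx hy
          rwa [← mul_assoc, hc x, mul_assoc] at this
        · refine Or.inr ?_
          have := K.mul_mem hx hy
          rwa [mul_assoc] at this
        · refine Or.inl ?_
          have := K.mul_mem hx hy
          rwa [show a * x * (a * y) = (a * a) * (x * y) by
            rw [mul_assoc a x, ← mul_assoc x a, hc x]; group, ha2, one_mul] at this
      inv_mem' := fun {x} hx => by
        rcases hx with hx | hx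
        · exact Or.inl (K.inv_mem hx)
        · refine Or.inr ?_
          have := K.inv_mem hx
          rwa [mul_inv_rev, inv_eq_of_mul_eq_one_right ha2, hc] at this }
  have hKL : K ≤ L := fun x hx => Or.inl hx
  refine ⟨L, fun x => Iff.rfl, ?_⟩
  have hidx : (K.subgroupOf L).index = 2 := by
    refine index_eq_two_iff'.mpr ⟨⟨a, Or.inr (ha2 ▸ K.one_mem)⟩, fun b => ?_⟩
    simp only [mem_subgroupOf, Subgroup.coe_mul, Xor]
    rcases (show (b : G) ∈ K ∨ a * (b : G) ∈ K from b.2) with hb | hb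
    · exact Or.inr ⟨hb, fun h => haK ((K.mul_mem_cancel_right hb).mp h)⟩
    · exact Or.inl ⟨hb, fun h => haK ((K.mul_mem_cancel_right h).mp hb)⟩
  rw [← (K.subgroupOf L).index_mul_card, hidx,
    Nat.card_congr (subgroupOfEquivOfLe hKL).toEquiv]

variable {M : Subgroup G}

/-- The character sum of one index-two subgroup. -/
theorem sq_sum_dvd (hM : M ≤ center G) (hsq : ∀ x : G, x * x ∈ M) (hexp : ∀ m ∈ M, m * m = 1)
    (hcm : ∀ x y : G, ⁅x, y⁆ ∈ M) (ε : G → ℤ) (hε1 : ε 1 = 1)
    (hεm : ∀ a ∈ M, ∀ b ∈ M, ε (a * b) = ε a * ε b) (Z : Subgroup G) (hZ : Z ≤ center G)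
    [Fintype G] : ((Nat.card G * Nat.card Z : ℕ) : ℤ) ∣ (∑ x, ε (x * x)) ^ 2 := by
  have hc : ∀ m ∈ M, ∀ x : G, x * m = m * x := fun m hm x => mem_center_iff.mp (hM hm) x
  have hconj : ∀ x y z : G, ⁅x * y, z⁆ = ⁅x, z⁆ * ⁅y, z⁆ := by
    intro x y z
    rw [show ⁅x * y, z⁆ = (x * ⁅y, z⁆ * x⁻¹) * ⁅x, z⁆ by simp only [commutatorElement_def]; group,
      hc _ (hcm y z) x, mul_inv_cancel_right, hc _ (hcm x z)]
  have hsqmul : ∀ a h : G, (a * a) * ((a * h) * (a * h)) = ⁅h, a⁆ * (h * h) := by
    intro a h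
    have e : (a * h) * (a * h) = a * ⁅h, a⁆ * a * (h * h) := by
      simp only [commutatorElement_def]; group
    calc (a * a) * ((a * h) * (a * h)) = a * a * (⁅h, a⁆ * a * a * (h * h)) := by
          rw [e, hc _ (hcm h a) a]
      _ = a * a * ⁅h, a⁆ * (a * a) * (h * h) := by group
      _ = ⁅h, a⁆ * ((a * a) * (a * a)) * (h * h) := by rw [hc _ (hcm h a) (a * a)]; group
      _ = _ := by rw [hexp _ (hsq a), mul_one]
  have hinner : ∀ h : G, ∑ a, ε ⁅a, h⁆ = 0 ∨ ∑ a, ε ⁅a, h⁆ = (Fintype.card G : ℤ) := fun h =>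
    sum_sign (fun a => ε ⁅a, h⁆) (by simp [hε1])
      fun a b => by rw [hconj, hεm _ (hcm a h) _ (hcm b h)]
  let R : Subgroup G :=
    { carrier := {h | ∀ a, ε ⁅a, h⁆ = 1}
      one_mem' := fun a => by rw [commutatorElement_one_right]; exact hε1
      mul_mem' := fun {h k} hh hk (a : G) => by
        rw [show ⁅a, h * k⁆ = ⁅a, h⁆ * (h * ⁅a, k⁆ * h⁻¹) by simp only [commutatorElement_def]; group,
          hc _ (hcm a k) h, mul_inv_cancel_right, hεm _ (hcm a h) _ (hcm a k), hh a, hk a, one_mul]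
      inv_mem' := fun {h} hh a => by
        have e : ⁅a, h⁻¹⁆ * ⁅a, h⁆ = 1 := by
          rw [show ⁅a, h⁻¹⁆ = h⁻¹ * ⁅h, a⁆ * h by simp only [commutatorElement_def]; group,
            hc _ (hcm h a) h⁻¹, inv_mul_cancel_right, ← commutatorElement_inv, inv_mul_cancel]
        have := hεm _ (hcm a h⁻¹) _ (hcm a h)
        rw [e, hε1, hh a, mul_one] at this
        exact this.symm }
  have hZR : Z ≤ R := fun h hh a => by
    rw [show ⁅a, h⁆ = 1 from commutatorElement_eq_one_iff_mul_comm.mpr (mem_center_iff.mp (hZ hh) a), hε1]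
  have hsum : (∑ x, ε (x * x)) ^ 2 = (Fintype.card G : ℤ) * ∑ h : R, ε ((h : G) * h) := by
    rw [pow_two, Finset.sum_mul_sum]
    have e1 : ∀ a : G, ∑ b, ε (a * a) * ε (b * b) = ∑ h, ε ⁅h, a⁆ * ε (h * h) := by
      intro a
      rw [← Equiv.sum_comp (Equiv.mulLeft a)]
      refine Finset.sum_congr rfl fun h _ => ?_
      show ε (a * a) * ε (a * h * (a * h)) = _
      rw [← hεm _ (hsq a) _ (hsq _), hsqmul, hεm _ (hcm h a) _ (hsq h)]
    simp only [e1]
    rw [Finset.sum_comm]
    have e2 : ∀ h : G, ∑ a, ε ⁅h, a⁆ * ε (h * h) =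
        if h ∈ R then (Fintype.card G : ℤ) * ε (h * h) else 0 := by
      intro h
      have e3 : ∀ a, ε ⁅h, a⁆ = ε ⁅a, h⁆ := fun a => by
        rw [← commutatorElement_inv a h, inv_eq_of_mul_eq_one_right (hexp _ (hcm a h))]
      simp only [e3, ← Finset.sum_mul]
      split_ifs with hR
      · simp [show ∀ a, ε ⁅a, h⁆ = 1 from hR]
      · rcases hinner h with h0 | h0
        · rw [h0, zero_mul]
        · refine absurd (fun a => ?_) hR
          have hle : ∀ a, ε ⁅a, h⁆ ≤ 1 := fun a => by
            have h' := hεm _ (hcm a h) _ (hcm a h)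
            rw [hexp _ (hcm a h), hε1] at h'
            nlinarith
          by_contra hne
          have : ∑ a, ε ⁅a, h⁆ < ∑ _a : G, (1 : ℤ) :=
            Finset.sum_lt_sum (fun a _ => hle a) ⟨a, Finset.mem_univ a, lt_of_le_of_ne (hle a) hne⟩
          rw [h0] at this
          simp at this
    simp only [e2]
    rw [← Finset.sum_filter, Finset.mul_sum]
    exact Finset.sum_subtype (p := (· ∈ R)) _ (fun x => by simp) (fun h => (Fintype.card G : ℤ) * ε (h * h))
  rw [hsum, Nat.card_eq_fintype_card, Nat.cast_mul]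
  refine mul_dvd_mul_left _ ?_
  have hh : ∀ h k : R, (fun h : R => ε ((h : G) * h)) (h * k) =
      (fun h : R => ε ((h : G) * h)) h * (fun h : R => ε ((h : G) * h)) k := fun h k => by
    show ε ((h : G) * k * (h * k)) = ε ((h : G) * h) * ε ((k : G) * k)
    rw [show (h : G) * k * (h * k) = h * ⁅(k : G), (h : G)⁆ * h * (k * k) by
      simp only [commutatorElement_def]; group, hc _ (hcm _ _) (h : G), mul_assoc ⁅(k : G), (h : G)⁆,
      hεm _ (M.mul_mem (hcm _ _) (hsq _)) _ (hsq _), hεm _ (hcm _ _) _ (hsq _),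
      h.2 (k : G), one_mul]
  rcases sum_sign (fun h : R => ε ((h : G) * h)) (by simp [hε1]) hh with h0 | h0
  · rw [h0]; exact dvd_zero _
  · rw [h0, ← Nat.card_eq_fintype_card]
    exact Int.natCast_dvd_natCast.mpr (Subgroup.card_dvd_of_le hZR)

/-- The number of elements whose square lies in `K`. -/
noncomputable def rootCount (K : Subgroup G) : ℕ := Nat.card {x : G // x * x ∈ K}

theorem rootCount_eq [Fintype G] (K : Subgroup G) :
    rootCount K = (Finset.univ.filter fun x : G => x * x ∈ K).card := by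
  rw [rootCount, Nat.card_eq_fintype_card, Fintype.card_subtype]

/-- The main bound. -/
theorem card_mul_le {t : ℕ} (hM : M ≤ center G) (hsq : ∀ x : G, x * x ∈ M)
    (hexp : ∀ m ∈ M, m * m = 1) (hcm : ∀ x y : G, ⁅x, y⁆ ∈ M) (Z : Subgroup G) (hZ : Z ≤ center G)
    {s : ℕ} (hs : Nat.card M = 2 ^ s) (ht : Nat.card G * Nat.card Z = 2 ^ t) :
    Nat.card G * Nat.card Z ≤ (rootCount (⊥ : Subgroup G) * Nat.card M) ^ 2 := by
  have := Fintype.ofFinite G
  set e := (t + 1) / 2 with he
  have hGe : 2 ^ e ∣ Nat.card G := by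
    obtain ⟨g, hg, hg'⟩ := (Nat.dvd_prime_pow Nat.prime_two).mp (Dvd.intro _ ht)
    have hzg : Nat.card Z ≤ Nat.card G := Nat.le_of_dvd Nat.card_pos (card_subgroup_dvd_card Z)
    have h2 : 2 ^ t ≤ 2 ^ (g + g) := by
      rw [← ht, pow_add, ← hg']; exact Nat.mul_le_mul_left _ hzg
    have := (Nat.pow_le_pow_iff_right (le_refl 2)).mp h2
    rw [hg']
    exact pow_dvd_pow 2 (by omega)
  have key : ∀ j, ∀ K : Subgroup G, K ≤ M → Nat.card K * 2 ^ j = Nat.card M →
      2 ^ e ∣ 2 ^ j * rootCount K := by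
    intro j
    induction j using Nat.strong_induction_on with
    | _ j ih =>
    intro K hKM hKj
    rcases j with _ | _ | j
    · have : K = M := eq_of_le_of_card_ge hKM (by rw [← hKj]; simp)
      subst this
      rw [pow_zero, one_mul, rootCount, Nat.card_congr (Equiv.subtypeUnivEquiv hsq)]
      exact hGe
    · -- one character
      have hidx : (K.subgroupOf M).index = 2 := by
        have h := (K.subgroupOf M).card_mul_index
        rw [Nat.card_congr (subgroupOfEquivOfLe hKM).toEquiv, ← hKj, zero_add, pow_one] at h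
        exact Nat.eq_of_mul_eq_mul_left Nat.card_pos h
      let ε : G → ℤ := fun m => if m ∈ K then 1 else -1
      have hεm : ∀ a ∈ M, ∀ b ∈ M, ε (a * b) = ε a * ε b := fun a ha b hb => by
        have h := mul_mem_iff_of_index_two hidx (a := ⟨a, ha⟩) (b := ⟨b, hb⟩)
        simp only [mem_subgroupOf, Subgroup.coe_mul] at h
        by_cases h1 : a ∈ K <;> by_cases h2 : b ∈ K <;> simp [ε, h, h1, h2]
      have hd := sq_sum_dvd hM hsq hexp hcm ε (by simp [ε, K.one_mem]) hεm Z hZ
      have hsum : ∑ x : G, ε (x * x) = 2 * (rootCount K : ℤ) - (Nat.card G : ℤ) := by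
        rw [rootCount_eq, Nat.card_eq_fintype_card, ← Finset.sum_filter_add_sum_filter_not
          Finset.univ (fun x : G => x * x ∈ K)]
        have h := Finset.card_filter_add_card_filter_not
          (s := (Finset.univ : Finset G)) (fun x : G => x * x ∈ K)
        rw [Finset.card_univ] at h
        rw [Finset.sum_congr rfl (g := fun _ => (1 : ℤ)) fun x hx => if_pos (Finset.mem_filter.mp hx).2,
          Finset.sum_congr rfl (g := fun _ => (-1 : ℤ)) fun x hx => if_neg (Finset.mem_filter.mp hx).2,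
          ← h]
        simp only [Finset.sum_const, nsmul_eq_mul, mul_one, mul_neg]
        push_cast; ring
      rw [ht, hsum] at hd
      have hsgn : (2 ^ e : ℕ) ∣ (2 * (rootCount K : ℤ) - (Nat.card G : ℤ)).natAbs := by
        set S := 2 * (rootCount K : ℤ) - (Nat.card G : ℤ) with hS
        rcases eq_or_ne S.natAbs 0 with h0 | h0
        · rw [h0]; exact dvd_zero _
        have hd' : 2 ^ t ∣ S.natAbs ^ 2 := by
          rw [← Int.natAbs_pow]
          exact Int.natCast_dvd.mp hd
        rw [Nat.prime_two.pow_dvd_iff_le_factorization h0]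
        have := (Nat.prime_two.pow_dvd_iff_le_factorization (pow_ne_zero 2 h0)).mp hd'
        rw [Nat.factorization_pow] at this
        simp only [Finsupp.smul_apply, smul_eq_mul] at this
        omega
      have h3 := Int.natCast_dvd.mpr hsgn
      have h4 := dvd_add h3 (Int.natCast_dvd_natCast.mpr hGe)
      rw [sub_add_cancel] at h4
      rw [zero_add, pow_one]
      exact_mod_cast h4
    · -- three intermediate subgroups
      have hlt : Nat.card K < Nat.card M := by
        rw [← hKj]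
        exact lt_mul_of_one_lt_right Nat.card_pos (Nat.one_lt_pow (by omega) (le_refl 2))
      obtain ⟨a, haM, haK⟩ := SetLike.exists_of_lt (lt_of_le_of_ne hKM fun h => by rw [h] at hlt; omega)
      obtain ⟨K1, hK1, hK1c⟩ := card_insert K (hM haM) (hexp a haM) haK
      have hlt1 : Nat.card K1 < Nat.card M := by
        rw [hK1c, ← hKj, pow_succ', pow_succ']
        have h1 : 1 ≤ 2 ^ j := Nat.one_le_two_pow
        nlinarith [Nat.card_pos (α := K)]
      have hK1M : K1 ≤ M := fun x hx => by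
        rcases (hK1 x).mp hx with h | h
        · exact hKM h
        · exact (M.mul_mem_cancel_left haM).mp (hKM h)
      obtain ⟨b, hbM, hbK1⟩ := SetLike.exists_of_lt (lt_of_le_of_ne hK1M fun h => by rw [h] at hlt1; omega)
      have hbK : b ∉ K := fun h => hbK1 ((hK1 b).mpr (Or.inl h))
      have habK : a * b ∉ K := fun h => hbK1 ((hK1 b).mpr (Or.inr h))
      obtain ⟨K2, hK2, hK2c⟩ := card_insert K (hM hbM) (hexp b hbM) hbK
      obtain ⟨K3, hK3, hK3c⟩ := card_insert K (hM (M.mul_mem haM hbM)) (hexp _ (M.mul_mem haM hbM)) habK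
      obtain ⟨L, hL, hLc⟩ := card_insert K1 (hM hbM) (hexp b hbM) hbK1
      have hle : ∀ {c : G}, c ∈ M → ∀ {K' : Subgroup G}, (∀ x, x ∈ K' ↔ x ∈ K ∨ c * x ∈ K) → K' ≤ M :=
        fun {c} hc {K'} hK' x hx => by
        rcases (hK' x).mp hx with h | h
        · exact hKM h
        · exact (M.mul_mem_cancel_left hc).mp (hKM h)
      have hLM : L ≤ M := fun x hx => by
        rcases (hL x).mp hx with h | h
        · exact hK1M h
        · exact (M.mul_mem_cancel_left hbM).mp (hK1M h)
      have h1 := ih (j + 1) (by omega) K1 hK1M (by rw [hK1c, ← hKj]; ring)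
      have h2 := ih (j + 1) (by omega) K2 (hle hbM hK2) (by rw [hK2c, ← hKj]; ring)
      have h3 := ih (j + 1) (by omega) K3 (hle (M.mul_mem haM hbM) hK3) (by rw [hK3c, ← hKj]; ring)
      have h4 := ih j (by omega) L hLM (by rw [hLc, hK1c, ← hKj]; ring)
      have hcount : rootCount K1 + rootCount K2 + rootCount K3 = rootCount L + 2 * rootCount K := by
        simp only [rootCount_eq, Finset.card_filter]
        rw [← Finset.sum_add_distrib, ← Finset.sum_add_distrib, Finset.mul_sum, ← Finset.sum_add_distrib]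
        refine Finset.sum_congr rfl fun x _ => ?_
        set y := x * x with hy
        have c : ∀ {u v : G}, u ∈ K → v ∈ K → u * v⁻¹ ∈ K := fun hu hv => K.mul_mem hu (K.inv_mem hv)
        have hca : ∀ z, z * a = a * z := fun z => mem_center_iff.mp (hM haM) z
        have hLy : y ∈ L ↔ y ∈ K ∨ a * y ∈ K ∨ b * y ∈ K ∨ a * b * y ∈ K := by
          rw [hL, hK1, hK1, ← mul_assoc a b y]; tauto
        have n1 : ¬ (y ∈ K ∧ a * y ∈ K) := fun h => haK (by simpa using c h.2 h.1)
        have n2 : ¬ (y ∈ K ∧ b * y ∈ K) := fun h => hbK (by simpa using c h.2 h.1)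
        have n3 : ¬ (y ∈ K ∧ a * b * y ∈ K) := fun h => habK (by simpa using c h.2 h.1)
        have n4 : ¬ (a * y ∈ K ∧ b * y ∈ K) := fun h => habK (by
          have e := c h.1 h.2
          rwa [mul_inv_rev, inv_eq_of_mul_eq_one_right (hexp b hbM), ← mul_assoc, mul_inv_cancel_right] at e)
        have n5 : ¬ (a * y ∈ K ∧ a * b * y ∈ K) := fun h => hbK (by
          have e := c h.2 h.1
          rwa [mul_inv_rev, ← mul_assoc, mul_inv_cancel_right, ← hca, mul_assoc, mul_inv_cancel,
            mul_one] at e)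
        have n6 : ¬ (b * y ∈ K ∧ a * b * y ∈ K) := fun h => haK (by
          have e := c h.2 h.1
          rwa [mul_inv_rev, ← mul_assoc, mul_inv_cancel_right, mul_inv_cancel_right] at e)
        by_cases q1 : y ∈ K <;> by_cases q2 : a * y ∈ K <;> by_cases q3 : b * y ∈ K <;>
          by_cases q4 : a * b * y ∈ K <;>
          simp_all
      have h5 : 2 ^ e ∣ 2 ^ (j + 1) * rootCount K1 + 2 ^ (j + 1) * rootCount K2 + 2 ^ (j + 1) * rootCount K3 :=
        dvd_add (dvd_add h1 h2) h3
      rw [← mul_add, ← mul_add, hcount, mul_add] at h5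
      have h6 : 2 ^ e ∣ 2 ^ (j + 1) * rootCount L := by
        rw [pow_succ' 2 j, mul_assoc]; exact dvd_mul_of_dvd_right h4 2
      have h7 := (Nat.dvd_add_right h6).mp h5
      rwa [← mul_assoc, ← pow_succ] at h7
  have h0 := key s ⊥ bot_le (by rw [Subgroup.card_bot, one_mul, hs])
  have hpos : 0 < rootCount (⊥ : Subgroup G) := by
    rw [rootCount]
    have : Nonempty {x : G // x * x ∈ (⊥ : Subgroup G)} := ⟨⟨1, by simp⟩⟩
    exact Nat.card_pos
  have h1 := Nat.le_of_dvd (Nat.mul_pos (pow_pos (by norm_num) s) hpos) h0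
  rw [ht, hs, mul_comm _ (2 ^ s)]
  refine le_trans (Nat.pow_le_pow_right (by norm_num) (show t ≤ e * 2 by omega)) ?_
  rw [pow_mul]
  exact Nat.pow_le_pow_left h1 2

theorem rootCount_bot : rootCount (⊥ : Subgroup G) = Nat.card {x : G // x ^ 2 = 1} :=
  Nat.card_congr (Equiv.subtypeEquivRight fun x => by rw [mem_bot, pow_two])

/-- A finite 2-group with central squares. -/
theorem card_le_cube (hG : IsPGroup 2 G) (hcl : ∀ x y z : G, z * ⁅x, y⁆ = ⁅x, y⁆ * z)
    (hexp : ∀ x : G, x ^ 4 = 1) (hN : ∀ x y : G, x ^ 2 = 1 → y ^ 2 = 1 → (x * y) ^ 2 = 1) :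
    Nat.card G ≤ Nat.card {x : G // x ^ 2 = 1} ^ 3 ∧
      (¬ Cfsg.IsSpecial 2 G → Nat.card G < Nat.card {x : G // x ^ 2 = 1} ^ 3) := by
  have : Fact (Nat.Prime 2) := ⟨Nat.prime_two⟩
  haveI := hG.isNilpotent
  let N : Subgroup G :=
    { carrier := {x | x ^ 2 = 1}
      one_mem' := one_pow 2
      mul_mem' := fun {x y} hx hy => hN x y hx hy
      inv_mem' := fun {x} hx => by
        show x⁻¹ ^ 2 = 1
        rw [inv_pow, (show x ^ 2 = 1 from hx), inv_one] }
  set M : Subgroup G := closure (Set.range fun x : G => x ^ 2) with hMdef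
  have hMN : M ≤ N := (closure_le _).mpr fun _ ⟨x, hx⟩ => by
    show _ ^ 2 = 1
    rw [← hx, ← pow_mul]; exact hexp x
  have hcm : ∀ x y : G, ⁅x, y⁆ ∈ M := fun x y => by
    rw [show ⁅x, y⁆ = x ^ 2 * (x⁻¹ * y) ^ 2 * (y⁻¹) ^ 2 by
      simp only [commutatorElement_def, pow_two]; group]
    exact mul_mem (mul_mem (subset_closure ⟨_, rfl⟩) (subset_closure ⟨_, rfl⟩)) (subset_closure ⟨_, rfl⟩)
  have hexpM : ∀ m ∈ M, m * m = 1 := fun m hm => by rw [← pow_two]; exact hMN hm
  have hMc : M ≤ center G := (closure_le _).mpr fun _ ⟨x, hx⟩ => mem_center_iff.mpr fun y => by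
    rw [← hx]
    show y * x ^ 2 = x ^ 2 * y
    apply mul_inv_eq_iff_eq_mul.mp
    rw [← conj_pow, show y * x * y⁻¹ = ⁅y, x⁆ * x by rw [commutatorElement_def]; group,
      (show Commute ⁅y, x⁆ x from (hcl y x x).symm).mul_pow, pow_two ⁅y, x⁆, hexpM _ (hcm y x), one_mul]
  have hsq : ∀ x : G, x * x ∈ M := fun x => by rw [← pow_two]; exact subset_closure ⟨x, rfl⟩
  have hNn : Nat.card {x : G // x ^ 2 = 1} = Nat.card N := rfl
  rw [hNn]
  obtain ⟨g, hg⟩ := IsPGroup.iff_card.mp hG
  obtain ⟨s, hs⟩ := IsPGroup.iff_card.mp (hG.to_subgroup M)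
  obtain ⟨z, hz⟩ := IsPGroup.iff_card.mp (hG.to_subgroup (center G))
  have main := card_mul_le hMc hsq hexpM hcm (center G) le_rfl hs (t := g + z) (by rw [hg, hz, pow_add])
  rw [rootCount_bot, hNn] at main
  have hMZ : Nat.card M ≤ Nat.card (center G) := card_le_of_le hMc
  have hMN' : Nat.card M ≤ Nat.card N := card_le_of_le hMN
  have hMpos : 0 < Nat.card M := Nat.card_pos
  have h1 : Nat.card G * Nat.card M ≤ (Nat.card N * Nat.card M) ^ 2 :=
    le_trans (Nat.mul_le_mul_left _ hMZ) main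
  have h2 : Nat.card G ≤ Nat.card N ^ 2 * Nat.card M :=
    Nat.le_of_mul_le_mul_right (le_trans h1 (le_of_eq (by ring))) hMpos
  refine ⟨h2.trans (le_trans (Nat.mul_le_mul_left _ hMN') (le_of_eq (by ring))), fun hns => ?_⟩
  rcases lt_or_eq_of_le hMN' with hlt | heqN
  · calc Nat.card G ≤ Nat.card N ^ 2 * Nat.card M := h2
      _ < Nat.card N ^ 2 * Nat.card N := Nat.mul_lt_mul_of_pos_left hlt (pow_pos Nat.card_pos 2)
      _ = _ := by ring
  rcases lt_or_eq_of_le hMZ with hlt | heqZ
  · refine Nat.lt_of_mul_lt_mul_right (a := Nat.card M) ?_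
    calc Nat.card G * Nat.card M < Nat.card G * Nat.card (center G) :=
          Nat.mul_lt_mul_of_pos_left hlt Nat.card_pos
      _ ≤ (Nat.card N * Nat.card M) ^ 2 := main
      _ = _ := by rw [heqN]; ring
  have eN : M = N := eq_of_le_of_card_ge hMN heqN.ge
  have eZ : M = center G := eq_of_le_of_card_ge hMc heqZ.ge
  have hfr : frattini G = center G := by
    rw [← eZ]
    refine le_antisymm ?_ ((closure_le _).mpr fun _ ⟨x, hx⟩ => hx ▸ Cores.pow_mem_frattini hG x)
    haveI : M.Normal := eZ ▸ inferInstance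
    have h3 := Cores.map_frattini_le (QuotientGroup.mk' M) (QuotientGroup.mk'_surjective M)
    have h4 : frattini (G ⧸ M) ≤ ⊥ := QuadCount.frattini_le_bot_of_elementary (fun u v => by
      obtain ⟨u, rfl⟩ := QuotientGroup.mk'_surjective M u
      obtain ⟨v, rfl⟩ := QuotientGroup.mk'_surjective M v
      rw [← commutatorElement_eq_one_iff_mul_comm, ← map_commutatorElement]
      exact (QuotientGroup.eq_one_iff _).mpr (hcm u v)) (fun u => by
      obtain ⟨u, rfl⟩ := QuotientGroup.mk'_surjective M u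
      rw [← map_pow]
      exact (QuotientGroup.eq_one_iff _).mpr (subset_closure ⟨u, rfl⟩))
    have h5 := h3.trans h4
    rwa [map_le_iff_le_comap, MonoidHom.comap_bot, QuotientGroup.ker_mk'] at h5
  have hG'M : commutator G < M := by
    refine lt_of_le_of_ne ?_ fun h => hns ⟨hG, hfr, h.trans eZ⟩
    rw [commutator_def, commutator_le]
    exact fun x _ y _ => hcm x y
  -- a hyperplane above the derived group
  obtain ⟨H, hH⟩ := Set.Finite.exists_maximal (Set.toFinite {K : Subgroup G | commutator G ≤ K ∧ K < M})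
    ⟨commutator G, le_rfl, hG'M⟩
  obtain ⟨⟨hG'H, hHM⟩, hmax⟩ := hH
  obtain ⟨a, haM, haH⟩ := SetLike.exists_of_lt hHM
  obtain ⟨L, hL, hLc⟩ := card_insert H (hMc haM) (hexpM a haM) haH
  have hLM : L = M := by
    have hle : L ≤ M := fun x hx => by
      rcases (hL x).mp hx with h | h
      · exact hHM.le h
      · exact (M.mul_mem_cancel_left haM).mp (hHM.le h)
    by_contra hne
    have := hmax ⟨hG'H.trans fun x hx => (hL x).mpr (Or.inl hx), lt_of_le_of_ne hle hne⟩
      (fun x hx => (hL x).mpr (Or.inl hx))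
    exact haH (this ((hL a).mpr (Or.inr ((hexpM a haM).symm ▸ H.one_mem))))
  rw [hLM] at hLc
  have hcH : ∀ x y : G, ⁅x, y⁆ ∈ H := fun x y =>
    hG'H (Subgroup.commutator_mem_commutator (mem_top x) (mem_top y))
  have hmul : ∀ x y : G, x * y * (x * y) = ⁅y, x⁆ * (x * x) * (y * y) := fun x y => by
    calc x * y * (x * y) = x * ⁅y, x⁆ * x * (y * y) := by
          simp only [commutatorElement_def]; group
      _ = _ := by rw [mem_center_iff.mp (hMc (hcm y x)) x, mul_assoc ⁅y, x⁆ x x]
  let U : Subgroup G :=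
    { carrier := {x | x * x ∈ H}
      one_mem' := by simp [H.one_mem]
      mul_mem' := fun {x y} hx hy => by
        show x * y * (x * y) ∈ H
        rw [hmul]; exact mul_mem (mul_mem (hcH y x) hx) hy
      inv_mem' := fun {x} hx => by
        show x⁻¹ * x⁻¹ ∈ H
        rw [← mul_inv_rev]; exact inv_mem hx }
  have hMU : M ≤ U := fun x hx => show x * x ∈ H by rw [hexpM x hx]; exact H.one_mem
  have hGU : Nat.card G ≤ 2 * Nat.card U := by
    rw [← U.index_mul_card]
    refine Nat.mul_le_mul_right _ ?_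
    by_cases hU : ∃ x, x * x ∉ H
    · obtain ⟨x, hx⟩ := hU
      refine le_of_eq (index_eq_two_iff'.mpr ⟨x, fun y => ?_⟩)
      have hHsq : ∀ u, u * u ∈ H ∨ a * (u * u) ∈ H := fun u => (hL _).mp (hLM.symm ▸ hsq u)
      have hxa : a * (x * x) ∈ H := (hHsq x).resolve_left hx
      show Xor (x * y * (x * y) ∈ H) (y * y ∈ H)
      rw [hmul]
      by_cases hy : y * y ∈ H
      · exact Or.inr ⟨hy, fun h => hx <| by
          have := (H.mul_mem_cancel_right hy).mp h
          exact (H.mul_mem_cancel_left (hcH y x)).mp this⟩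
      · refine Or.inl ⟨?_, hy⟩
        rw [mul_assoc]
        refine mul_mem (hcH y x) ?_
        have := H.mul_mem hxa ((hHsq y).resolve_left hy)
        rwa [show a * (x * x) * (a * (y * y)) = (a * a) * (x * x * (y * y)) by
          rw [mul_assoc a, ← mul_assoc (x * x) a, mem_center_iff.mp (hMc haM) (x * x)]; group,
          hexpM a haM, one_mul] at this
    · push Not at hU
      rw [show U = ⊤ from eq_top_iff.mpr fun x _ => hU x, index_top]
      norm_num
  obtain ⟨sH, hsH⟩ := IsPGroup.iff_card.mp ((hG.to_subgroup U).to_subgroup (H.subgroupOf U))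
  obtain ⟨u, hu⟩ := IsPGroup.iff_card.mp (hG.to_subgroup U)
  obtain ⟨n, hn⟩ := IsPGroup.iff_card.mp ((hG.to_subgroup U).to_subgroup (M.subgroupOf U))
  have cenU : ∀ K : Subgroup G, K ≤ M → K.subgroupOf U ≤ center U := fun K hK x hx =>
    mem_center_iff.mpr fun y => Subtype.ext (mem_center_iff.mp (hMc (hK hx)) y)
  have hU := card_mul_le (G := U) (M := H.subgroupOf U) (t := u + n) (cenU H hHM.le)
    (fun x => x.2) (fun m hm => Subtype.ext (hexpM _ (hHM.le hm))) (fun x y => hcH x y)
    (M.subgroupOf U) (cenU M le_rfl) hsH (by rw [hu, hn, pow_add])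
  have hroot : rootCount (⊥ : Subgroup U) = Nat.card M := by
    rw [rootCount_bot]
    exact Nat.card_congr
      { toFun := fun x => ⟨((x.1 : U) : G), eN.ge (show ((x.1 : U) : G) ^ 2 = 1 by
          simpa using congrArg Subtype.val x.2)⟩
        invFun := fun x => ⟨⟨x.1, hMU x.2⟩, Subtype.ext (show ((x : M) : G) ^ 2 = 1 from hMN x.2)⟩
        left_inv := fun x => rfl
        right_inv := fun x => rfl }
  rw [hroot, Nat.card_congr (subgroupOfEquivOfLe (hHM.le.trans hMU)).toEquiv,
    Nat.card_congr (subgroupOfEquivOfLe hMU).toEquiv] at hU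
  rw [← heqN]
  rw [hLc] at hU ⊢
  have hpos : 0 < Nat.card H := Nat.card_pos
  have h3 : Nat.card U ≤ 2 * Nat.card H ^ 3 :=
    Nat.le_of_mul_le_mul_right (hU.trans (le_of_eq (by ring))) (show 0 < 2 * Nat.card H by omega)
  have h4 : 0 < Nat.card H ^ 3 := pow_pos hpos 3
  rw [mul_pow]
  omega

end Cfsg.Agent.Lib.InvolutionBound
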