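import Cfsg.Agent.Lib.Cores.Frattini
import Cfsg.Prelude.Def_Transfer
import Mathlib

set_option autoImplicit false

namespace Cfsg.Agent.QuadCount

open scoped commutatorElement
open Subgroup

universe u
variable {G : Type u} [Group G]

/-- An elementary abelian 2-group has trivial Frattini subgroup. -/
lemma frattini_le_bot_of_elementary {G : Type u} [Group G] [Finite G]
    (hc : ∀ x y : G, x * y = y * x) (h : ∀ x : G, x ^ 2 = 1) : frattini G ≤ ⊥ := by
  intro x hx
  rw [mem_bot]
  by_contra hne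
  obtain ⟨M, -, hM, hmax⟩ : ∃ M : Subgroup G, ⊥ ≤ M ∧ x ∉ M ∧
      ∀ N : Subgroup G, x ∉ N → M ≤ N → N = M := by
    obtain ⟨M, hM⟩ := Set.Finite.exists_maximal (Set.toFinite {K : Subgroup G | x ∉ K})
      ⟨⊥, fun h => hne (mem_bot.mp h)⟩
    exact ⟨M, bot_le, hM.1, fun N hN hMN => le_antisymm (hM.2 hN hMN) hMN⟩
  have hbig : ∀ g ∉ M, x * g ∈ M := by
    intro g hg
    haveI : M.Normal := ⟨fun a ha b => by rwa [hc b a, mul_inv_cancel_right]⟩
    have hx' : x ∈ zpowers g ⊔ M := by
      by_contra hcon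
      exact hg ((hmax _ hcon le_sup_right) ▸ mem_sup_left (mem_zpowers g))
    obtain ⟨a, ha, b, hb, hab⟩ := Subgroup.mem_sup_of_normal_right.mp hx'
    obtain ⟨k, rfl⟩ := mem_zpowers_iff.mp ha
    have hg2 : g ^ (2 : ℤ) = 1 := by exact_mod_cast h g
    rcases Int.even_or_odd' k with ⟨l, rfl | rfl⟩
    · rw [zpow_mul, hg2, one_zpow, one_mul] at hab
      exact absurd (hab ▸ hb) hM
    · rw [zpow_add, zpow_mul, hg2, one_zpow, one_mul, zpow_one] at hab
      rw [← hab, hc g b, mul_assoc, ← sq, h, mul_one]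
      exact hb
  have hco : IsCoatom M := by
    refine ⟨fun he => hM (he ▸ mem_top x), fun N hN => ?_⟩
    obtain ⟨g, hgN, hgM⟩ := SetLike.exists_of_lt hN
    have hxN : x ∈ N := by
      have := N.mul_mem (hN.le (hbig g hgM)) (N.inv_mem hgN)
      simpa using this
    refine eq_top_iff.mpr fun y _ => ?_
    by_cases hy : y ∈ M
    · exact hN.le hy
    · have := N.mul_mem (N.inv_mem hxN) (hN.le (hbig y hy))
      simpa [← mul_assoc] using this
  exact hM (frattini_le_coatom hco hx)

open scoped Classical in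
/-- The sign of an element. -/
noncomputable def sgn (x : G) : ℤ := if x = 1 then 1 else -1

open scoped Classical in
/-- The commutation sign. -/
noncomputable def bsgn (x h : G) : ℤ := sgn ⁅h, x⁆

lemma sgn_mul_of_mem {H : Subgroup G} (hH : Nat.card H = 2) {a b : G} (ha : a ∈ H) (hb : b ∈ H) :
    sgn (a * b) = sgn a * sgn b := by
  classical
  haveI : Finite H := Nat.finite_of_card_ne_zero (by omega)
  obtain ⟨z, w, hzw, huniv⟩ := Nat.card_eq_two_iff.mp hH
  have key : ∀ u v : H, u ≠ 1 → v ≠ 1 → u * v = 1 := by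
    intro u v hu hv
    have hmem : ∀ t : H, t = z ∨ t = w := fun t => by
      have : t ∈ ({z, w} : Set H) := huniv ▸ Set.mem_univ t
      simpa using this
    have huv : u = v := by
      rcases hmem u with h1 | h1 <;> rcases hmem v with h2 | h2 <;> rcases hmem 1 with h3 | h3 <;>
        first
          | (subst h1; subst h2; rfl)
          | exact absurd (h1.trans h3.symm) hu
          | exact absurd (h2.trans h3.symm) hv
    subst huv
    rcases hmem (u * u) with h1 | h1 <;> rcases hmem u with h2 | h2 <;>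
      rcases hmem 1 with h3 | h3 <;>
        first
          | exact h1.trans h3.symm
          | exact absurd (h2.trans h3.symm) hu
          | exact absurd (mul_eq_left.mp (h1.trans h2.symm)) hu
  by_cases h1 : a = 1
  · subst h1; simp [sgn]
  by_cases h2 : b = 1
  · subst h2; simp [sgn]
  have h3 : a * b = 1 := by
    have := key ⟨a, ha⟩ ⟨b, hb⟩ (fun h => h1 (by simpa using congrArg Subtype.val h))
      (fun h => h2 (by simpa using congrArg Subtype.val h))
    simpa using congrArg Subtype.val this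
  simp [sgn, h1, h2, h3]

lemma sgn_sq (x : G) : sgn x * sgn x = 1 := by
  classical
  unfold sgn; split_ifs <;> ring

variable [Finite G]

/-- The count of solutions of `x ^ 2 = 1`. -/
theorem count (hG : IsPGroup 2 G) (hΦ : Nat.card (frattini G) = 2) (d : ℕ)
    (hd : (frattini G).index = 2 ^ d) :
    Nat.card {x : G // x ^ 2 = 1} = 2 ^ d ∨
      ∃ e r : ℕ, d = e + 2 * r ∧ 1 ≤ r ∧ Nat.card (center G) = 2 ^ (e + 1) ∧
        (Nat.card {x : G // x ^ 2 = 1} = 2 ^ d + 2 ^ (d - r) ∨
          Nat.card {x : G // x ^ 2 = 1} + 2 ^ (d - r) = 2 ^ d) := by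
  classical
  haveI : Fact (Nat.Prime 2) := ⟨Nat.prime_two⟩
  haveI := hG.isNilpotent
  haveI : Fintype G := Fintype.ofFinite G
  set F := frattini G with hF
  have hsq : ∀ x : G, x ^ 2 ∈ F := fun x => Cfsg.Agent.Lib.Cores.pow_mem_frattini hG x
  have hcomm : ∀ x y : G, ⁅x, y⁆ ∈ F := fun x y =>
    Cfsg.Agent.Lib.Cores.commutator_le_frattini (commutator_mem_commutator (mem_top x) (mem_top y))
  have hFc : ∀ f ∈ F, ∀ g : G, g * f = f * g := by
    intro f hf g
    by_cases hf1 : f = 1
    · simp [hf1]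
    have hgf : g * f * g⁻¹ ∈ F := (inferInstance : F.Normal).conj_mem f hf g
    have hne : g * f * g⁻¹ ≠ 1 := fun h => hf1 (by simpa using h)
    haveI : Finite F := inferInstance
    obtain ⟨z, hz, hu⟩ := (Nat.card_eq_two_iff' (1 : F)).mp hΦ
    have h1 := hu ⟨_, hgf⟩ (fun h => hne (congrArg Subtype.val h))
    have h2 := hu ⟨f, hf⟩ (fun h => hf1 (congrArg Subtype.val h))
    have h3 : g * f * g⁻¹ = f := congrArg Subtype.val (h1.trans h2.symm)
    calc g * f = g * f * g⁻¹ * g := by group
      _ = f * g := by rw [h3]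
  have hmul : ∀ x h : G, sgn ((x * h) ^ 2) = sgn (x ^ 2) * sgn (h ^ 2) * bsgn x h := by
    intro x h
    have hc := hcomm h x
    have e : (x * h) ^ 2 = x ^ 2 * h ^ 2 * ⁅h, x⁆ := by
      have h1 : h * x = ⁅h, x⁆ * (x * h) := by rw [commutatorElement_def]; group
      calc (x * h) ^ 2 = x * (h * x) * h := by rw [sq]; group
        _ = (x * ⁅h, x⁆) * (x * h * h) := by rw [h1]; group
        _ = (⁅h, x⁆ * x) * (x * h * h) := by rw [hFc _ hc x]
        _ = ⁅h, x⁆ * (x ^ 2 * h ^ 2) := by rw [sq, sq]; group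
        _ = _ := by rw [hFc _ hc (x ^ 2 * h ^ 2)]
    rw [e, sgn_mul_of_mem hΦ (F.mul_mem (hsq x) (hsq h)) hc, sgn_mul_of_mem hΦ (hsq x) (hsq h)]
    rfl
  have hbadd : ∀ x y h : G, bsgn (x * y) h = bsgn x h * bsgn y h := by
    intro x y h
    have e : ⁅h, x * y⁆ = ⁅h, x⁆ * ⁅h, y⁆ := by
      have h1 : x * ⁅h, y⁆ * x⁻¹ = ⁅h, y⁆ := by rw [hFc _ (hcomm h y) x, mul_inv_cancel_right]
      conv_rhs => rw [← h1]
      simp only [commutatorElement_def]; group
    rw [bsgn, e, sgn_mul_of_mem hΦ (hcomm h x) (hcomm h y)]; rfl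
  set s : ℤ := ∑ x : G, sgn (x ^ 2) with hs
  have hsum : ∀ h : G, h ∉ center G → ∑ x : G, bsgn x h = 0 := by
    intro h hh
    obtain ⟨g, hg⟩ : ∃ g, g * h ≠ h * g := by
      by_contra! hcon; exact hh (mem_center_iff.mpr hcon)
    have hbg : bsgn g h = -1 := by
      rw [bsgn, sgn, if_neg]
      rw [commutatorElement_eq_one_iff_mul_comm]
      exact fun h' => hg h'.symm
    have h1 : ∑ x : G, bsgn (x * g) h = ∑ x : G, bsgn x h :=
      Fintype.sum_equiv (Equiv.mulRight g) _ _ (fun x => rfl)
    simp only [hbadd, hbg, mul_neg, mul_one, Finset.sum_neg_distrib] at h1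
    linarith
  have hs2 : s * s = (Fintype.card G : ℤ) * ∑ h : center G, sgn ((h : G) ^ 2) := by
    have h1 : s * s = ∑ x : G, ∑ h : G, sgn (x ^ 2) * sgn ((x * h) ^ 2) := by
      rw [hs, Finset.sum_mul]
      refine Finset.sum_congr rfl fun x _ => ?_
      rw [← Finset.mul_sum]
      congr 1
      exact (Fintype.sum_equiv (Equiv.mulLeft x) _ _ (fun y => rfl)).symm
    rw [h1, Finset.sum_comm]
    have h2 : ∀ h : G, ∑ x : G, sgn (x ^ 2) * sgn ((x * h) ^ 2) =
        if h ∈ center G then (Fintype.card G : ℤ) * sgn (h ^ 2) else 0 := by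
      intro h
      have h3 : ∀ x : G, sgn (x ^ 2) * sgn ((x * h) ^ 2) = sgn (h ^ 2) * bsgn x h := fun x => by
        rw [hmul]; linear_combination (sgn (h ^ 2) * bsgn x h) * sgn_sq (x ^ 2)
      simp only [h3, ← Finset.mul_sum]
      split_ifs with hc
      · have h4 : ∀ x : G, bsgn x h = 1 := fun x => by
          rw [bsgn, sgn, if_pos]
          rw [commutatorElement_eq_one_iff_mul_comm]
          exact (mem_center_iff.mp hc x).symm
        simp only [h4, Finset.sum_const, Finset.card_univ, nsmul_eq_mul, mul_one]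
        ring
      · rw [hsum h hc, mul_zero]
    simp only [h2]
    rw [Finset.sum_ite, Finset.sum_const_zero, add_zero, ← Finset.mul_sum,
      Finset.sum_subtype (Finset.univ.filter (· ∈ center G)) (p := (· ∈ center G)) (by simp)]
  have hscount : s = 2 * (Nat.card {x : G // x ^ 2 = 1} : ℤ) - Fintype.card G := by
    rw [Nat.card_eq_fintype_card, Fintype.card_subtype, hs]
    have h1 : ∀ x : G, sgn (x ^ 2) = 2 * (if x ^ 2 = 1 then (1 : ℤ) else 0) - 1 := fun x => by
      unfold sgn; split_ifs <;> ring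
    simp only [h1, Finset.sum_sub_distrib, ← Finset.mul_sum, Finset.sum_boole, Finset.sum_const,
      Finset.card_univ, nsmul_eq_mul, mul_one]
  have hcardG : Fintype.card G = 2 ^ (d + 1) := by
    rw [← Nat.card_eq_fintype_card, ← card_mul_index F, hΦ, hd, pow_succ']
  set j := Nat.card {x : G // x ^ 2 = 1} with hj
  have hjeq : s = 2 * (j : ℤ) - 2 * 2 ^ d := by
    rw [hscount, hcardG]; push_cast; ring
  have hchar : (∑ h : center G, sgn ((h : G) ^ 2)) = 0 ∨
      ∀ h : center G, sgn ((h : G) ^ 2) = 1 := by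
    by_cases hall : ∀ h : center G, sgn ((h : G) ^ 2) = 1
    · exact Or.inr hall
    · left
      push Not at hall
      obtain ⟨g, hg⟩ := hall
      have hg1 : sgn ((g : G) ^ 2) = -1 := by
        unfold sgn at hg ⊢; split_ifs at hg ⊢ <;> simp_all
      have hm : ∀ h : center G,
          sgn (((h * g : center G) : G) ^ 2) = -sgn ((h : G) ^ 2) := fun h => by
        have hc : Commute (h : G) (g : G) := (mem_center_iff.mp g.2 (h : G))
        rw [Subgroup.coe_mul, hc.mul_pow, sgn_mul_of_mem hΦ (hsq _) (hsq _), hg1]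
        ring
      have h1 : ∑ h : center G, sgn (((h * g : center G) : G) ^ 2) =
          ∑ h : center G, sgn ((h : G) ^ 2) :=
        Fintype.sum_equiv (Equiv.mulRight g) _ _ (fun x => rfl)
      simp only [hm, Finset.sum_neg_distrib] at h1
      linarith
  rcases hchar with h0 | hall
  · left
    rw [h0, mul_zero, mul_self_eq_zero] at hs2
    have : (j : ℤ) = 2 ^ d := by linarith
    exact_mod_cast this
  · right
    simp only [hall, Finset.sum_const, Finset.card_univ, nsmul_eq_mul, mul_one] at hs2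
    rw [← Nat.card_eq_fintype_card (α := center G)] at hs2
    have hFZ : F ≤ center G := fun f hf => mem_center_iff.mpr fun g => hFc f hf g
    obtain ⟨k, hk⟩ := IsPGroup.iff_card.mp (hG.to_subgroup (center G))
    have hk1 : 1 ≤ k := by
      have := Subgroup.card_dvd_of_le hFZ
      rw [hΦ, hk] at this
      rcases k with _ | k
      · simp at this
      · omega
    obtain ⟨e, rfl⟩ : ∃ e, k = e + 1 := ⟨k - 1, by omega⟩
    have hed : e < d := by
      have h1 := Subgroup.card_dvd_of_le (le_top : center G ≤ ⊤)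
      rw [hk, Subgroup.card_top, Nat.card_eq_fintype_card, hcardG] at h1
      have h2 := (Nat.pow_dvd_pow_iff_le_right (by norm_num)).mp h1
      by_contra hcon
      have hed : e = d := by omega
      have htop : center G = ⊤ := Subgroup.eq_top_of_card_eq _ (by
        rw [hk, Nat.card_eq_fintype_card, hcardG, hed])
      have hone : ∀ x : G, x ^ 2 = 1 := fun x => by
        have h3 := hall ⟨x, htop ▸ mem_top x⟩
        by_contra hx
        simp only [sgn, if_neg hx] at h3
        norm_num at h3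
      have hbot : F = ⊥ := by
        rw [eq_bot_iff]
        exact frattini_le_bot_of_elementary (fun x y =>
          mem_center_iff.mp (htop ▸ mem_top y) x) hone
      rw [hbot, Subgroup.card_bot] at hΦ
      omega
    have hsq2 : s * s = 2 ^ (d + e + 2) := by
      rw [hs2, hcardG, hk]; push_cast; ring
    obtain ⟨t, ht⟩ : ∃ t : ℕ, s = (t : ℤ) ∨ s = -(t : ℤ) := ⟨s.natAbs, s.natAbs_eq⟩
    have htt : t * t = 2 ^ (d + e + 2) := by
      have : ((t * t : ℕ) : ℤ) = ((2 ^ (d + e + 2) : ℕ) : ℤ) := by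
        push_cast; rw [← hsq2]; rcases ht with h | h <;> rw [h] <;> ring
      exact_mod_cast this
    obtain ⟨m, -, hm⟩ := (Nat.dvd_prime_pow Nat.prime_two).mp (Dvd.intro t htt)
    rw [hm, ← pow_add] at htt
    have hmm : m + m = d + e + 2 := Nat.pow_right_injective (by norm_num) htt
    refine ⟨e, m - 1 - e, by omega, by omega, hk, ?_⟩
    have hdr : d - (m - 1 - e) = m - 1 := by omega
    have hp : (2 : ℤ) ^ m = 2 * 2 ^ (m - 1) := by
      rw [← pow_succ']; congr 1; omega
    rw [hdr]
    rcases ht with h | h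
    · left
      have : (j : ℤ) = 2 ^ d + 2 ^ (m - 1) := by
        rw [h, hm] at hjeq; push_cast at hjeq; linarith
      exact_mod_cast this
    · right
      have : (j : ℤ) + 2 ^ (m - 1) = 2 ^ d := by
        rw [h, hm] at hjeq; push_cast at hjeq; linarith
      exact_mod_cast this

end Cfsg.Agent.QuadCount
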