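import Cfsg.Agent.Lib.QuadCount.InvolutionBound
import Cfsg.Agent.Lib.Coprime.Action
import Cfsg.Agent.Lib.Coprime.PxQ
import Cfsg.Prelude.Def_CaseTheorems

/-!
Fixed-point-free 3-elements on 2-groups of rank two.
-/

set_option autoImplicit false
set_option linter.unusedSectionVars false

namespace Cfsg.Agent.Lib.RankTwoThree

open scoped commutatorElement
open Subgroup

universe u

variable {X : Type u} [Group X] [Finite X]

theorem orderOf_eq_three (d : X) (n : ℕ) (hn : 1 ≤ n) (hd : orderOf d = 3 ^ n) (P : Subgroup X)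
    (hP : IsPGroup 2 P) (hdP : d ∈ normalizer (P : Set X))
    (hfaith : zpowers d ⊓ centralizer (P : Set X) = ⊥) (hfpf : P ⊓ centralizer {d} = ⊥)
    (hrank : ∀ V : Subgroup X, V ≤ P → IsMulCommutative V → Cfsg.PRankLE 2 2 V) : orderOf d = 3 := by
  by_contra hne
  obtain ⟨m, rfl⟩ : ∃ m, n = m + 2 := ⟨n - 2, by
    rcases (show n = 1 ∨ 2 ≤ n by omega) with rfl | h
    · exact absurd (by simpa using hd) hne
    · omega⟩
  have : Fact (Nat.Prime 2) := ⟨Nat.prime_two⟩
  set e := d ^ (3 ^ (m + 1)) with he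
  have he1 : e ≠ 1 := fun h => by
    have h1 := orderOf_dvd_of_pow_eq_one (he ▸ h)
    rw [hd, Nat.pow_dvd_pow_iff_le_right (by norm_num)] at h1
    omega
  set E := zpowers e with hE
  have hEd : e ∈ zpowers d := pow_mem (mem_zpowers d) _
  have he3 : orderOf e = 3 := by
    rw [he, orderOf_pow' d (by positivity), hd, Nat.gcd_eq_right (pow_dvd_pow 3 (by omega)),
      Nat.pow_div (by omega) (by norm_num), show m + 2 - (m + 1) = 1 by omega, pow_one]
  have hPE : ¬ E ≤ centralizer (P : Set X) := fun h => he1 <| by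
    have : e ∈ zpowers d ⊓ centralizer (P : Set X) := mem_inf.mpr ⟨hEd, h (mem_zpowers e)⟩
    rwa [hfaith, mem_bot] at this
  obtain ⟨Q, ⟨hQP, hdQ, hQE⟩, hmin⟩ := (Set.toFinite {K : Subgroup X | K ≤ P ∧
    d ∈ normalizer (K : Set X) ∧ ¬ E ≤ centralizer (K : Set X)}).exists_minimal ⟨P, le_rfl, hdP, hPE⟩
  have hQ2 : IsPGroup 2 Q := hP.to_le hQP
  have hsmall : ∀ R : Subgroup X, R ≤ Q → R ≠ Q → d ∈ normalizer (R : Set X) →
      E ≤ centralizer (R : Set X) := fun R hR hne' hdR => by
    by_contra h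
    exact hne' (le_antisymm hR (hmin ⟨hR.trans hQP, hdR, h⟩ hR))
  have heN : e ∈ normalizer (Q : Set X) := (zpowers_le.mpr hdQ) hEd
  have hEN : E ≤ normalizer (Q : Set X) := zpowers_le.mpr heN
  have hcop : (Nat.card E).Coprime (Nat.card Q) := by
    obtain ⟨j, hj⟩ := IsPGroup.iff_card.mp hQ2
    rw [hE, Nat.card_zpowers, he3, hj]
    exact Nat.Coprime.pow_right j (by norm_num)
  have hconjmem : ∀ (K : Subgroup X) (g : X), g ∈ normalizer (K : Set X) → ∀ x ∈ K, g * x * g⁻¹ ∈ K :=
    fun K g hg x hx => (mem_normalizer_iff.mp hg x).mp hx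
  -- `[Q, E] = Q`
  have hQE' : ⁅Q, E⁆ = Q := by
    have hle : ⁅Q, E⁆ ≤ Q := Coprime.commutator_le_of_le_normalizer hEN
    by_contra hne'
    have hdd : d ∈ normalizer ((⁅Q, E⁆ : Subgroup X) : Set X) := by
      refine mem_normalizer_fintype fun x hx => ?_
      have h1 : ⁅Q, E⁆.map (MulAut.conj d).toMonoidHom ≤ ⁅Q, E⁆ := by
        rw [map_commutator]
        refine commutator_mono ?_ ?_
        · rintro _ ⟨q, hq, rfl⟩; exact hconjmem Q d hdQ q hq
        · rintro _ ⟨a, ha, rfl⟩
          obtain ⟨i, rfl⟩ := mem_zpowers_iff.mp ha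
          have hc : Commute d e := (Commute.refl d).pow_right _
          show d * e ^ i * d⁻¹ ∈ E
          rw [(hc.zpow_right i).eq, mul_inv_cancel_right]
          exact zpow_mem (mem_zpowers e) i
      exact h1 ⟨x, hx, rfl⟩
    have h2 := hsmall _ hle hne' hdd
    have h3 : ⁅⁅Q, E⁆, E⁆ = ⊥ := by
      rw [commutator_eq_bot_iff_le_centralizer]
      exact le_centralizer_iff.mp h2
    rw [Coprime.commutator_commutator_eq hEN hcop (Or.inl (Coprime.isSolvable_zpowers e)),
      commutator_eq_bot_iff_le_centralizer] at h3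
    exact hQE (le_centralizer_iff.mp h3)
  -- the squares
  set M : Subgroup X := closure {y | ∃ x ∈ Q, y = x ^ 2} with hM
  have hMQ : M ≤ Q := (closure_le _).mpr fun _ ⟨x, hx, hy⟩ => hy ▸ pow_mem hx 2
  have hMlt : M ≠ Q := by
    intro h
    have h1 : M.subgroupOf Q ≤ frattini Q := fun x hx => by
      have hx' : (x : X) ∈ M := hx
      refine closure_induction (p := fun y _ => ∀ hy : y ∈ Q, (⟨y, hy⟩ : Q) ∈ frattini Q) ?_ ?_ ?_ ?_ hx' x.2
      · rintro _ ⟨z, hz, rfl⟩ hy
        exact Cores.pow_mem_frattini hQ2 (⟨z, hz⟩ : Q)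
      · intro _; exact one_mem _
      · intro a b ha hb ha' hb' _
        exact mul_mem (ha' (hMQ ha)) (hb' (hMQ hb))
      · intro a ha ha' _
        exact inv_mem (ha' (hMQ ha))
    rw [h, subgroupOf_self, top_le_iff] at h1
    haveI : Nontrivial Q := by
      rcases subsingleton_or_nontrivial Q with hs | hs
      · exfalso
        apply hQE
        refine fun a _ => mem_centralizer_iff.mpr fun q hq => ?_
        rw [show q = 1 from congrArg Subtype.val (hs.elim ⟨q, hq⟩ 1), one_mul, mul_one]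
      · exact hs
    haveI := hQ2.isNilpotent
    exact Cores.frattini_ne_top h1
  have hnormM : ∀ g ∈ normalizer (Q : Set X), g ∈ normalizer (M : Set X) := fun g hg => by
    refine mem_normalizer_fintype fun x hx => ?_
    have h1 : M ≤ M.comap (MulAut.conj g).toMonoidHom := (closure_le _).mpr fun _ ⟨z, hz, hy⟩ =>
      hy ▸ subset_closure ⟨g * z * g⁻¹, hconjmem Q g hg z hz, conj_pow.symm⟩
    exact h1 hx
  have hEM : E ≤ centralizer (M : Set X) := hsmall M hMQ hMlt (hnormM d hdQ)
  have hMC : ∀ a ∈ M, ∀ x ∈ Q, x * a = a * x := by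
    have h : ⁅⁅Q, E⁆, M⁆ = ⊥ := by
      refine commutator_commutator_eq_bot_of_rotate ?_ ?_
      · rw [show ⁅E, M⁆ = ⊥ from commutator_eq_bot_iff_le_centralizer.mpr hEM, commutator_bot_left]
      · have h1 : ⁅M, Q⁆ ≤ M := Coprime.commutator_le_of_le_normalizer fun g hg =>
          hnormM g (le_normalizer hg)
        rw [commutator_eq_bot_iff_le_centralizer]
        exact h1.trans (le_centralizer_iff.mp hEM)
    rw [hQE', commutator_eq_bot_iff_le_centralizer] at h
    exact fun a ha x hx => (mem_centralizer_iff.mp (h hx) a ha).symm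
  have hsq : ∀ x ∈ Q, x ^ 2 ∈ M := fun x hx => subset_closure ⟨x, hx, rfl⟩
  have hcm : ∀ x ∈ Q, ∀ y ∈ Q, ⁅x, y⁆ ∈ M := fun x hx y hy => by
    rw [show ⁅x, y⁆ = x ^ 2 * (x⁻¹ * y) ^ 2 * (y⁻¹) ^ 2 by
      simp only [commutatorElement_def, pow_two]; group]
    exact mul_mem (mul_mem (hsq x hx) (hsq _ (mul_mem (inv_mem hx) hy))) (hsq _ (inv_mem hy))
  have hcm2 : ∀ x ∈ Q, ∀ y ∈ Q, ⁅x, y⁆ ^ 2 = 1 := fun x hx y hy => by
    have h1 : x * ⁅x, y⁆ = ⁅x, y⁆ * x := hMC _ (hcm x hx y hy) x hx
    have e : ⁅x ^ 2, y⁆ = x * ⁅x, y⁆ * x⁻¹ * ⁅x, y⁆ := by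
      simp only [commutatorElement_def, pow_two]; group
    rw [h1, mul_inv_cancel_right, ← pow_two,
      commutatorElement_eq_one_iff_mul_comm.mpr (hMC _ (hsq x hx) y hy).symm] at e
    exact e.symm
  have hmul2 : ∀ x ∈ Q, ∀ y ∈ Q, (x * y) ^ 2 = ⁅y, x⁆ * (x ^ 2 * y ^ 2) := fun x hx y hy => by
    have h1 : x * ⁅y, x⁆ = ⁅y, x⁆ * x := hMC _ (hcm y hy x hx) x hx
    calc (x * y) ^ 2 = x * ⁅y, x⁆ * x * (y * y) := by
          simp only [commutatorElement_def, pow_two]; group
      _ = _ := by rw [h1, pow_two, pow_two]; group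
  have hexp : ∀ x ∈ Q, x ^ 4 = 1 := by
    have hMcomm : ∀ a ∈ M, ∀ b ∈ M, Commute a b := fun a ha b hb => (hMC b hb a (hMQ ha))
    intro x hx
    rw [← hQE'] at hx
    have hmem : ∀ y, y ∈ ⁅Q, E⁆ → y ∈ Q := fun y hy => hQE' ▸ hy
    suffices h : x ∈ Q ∧ x ^ 4 = 1 from h.2
    refine closure_induction (p := fun x _ => x ∈ Q ∧ x ^ 4 = 1) ?_ ⟨one_mem _, one_pow _⟩ ?_ ?_ hx
    · rintro _ ⟨q, hq, a, ha, rfl⟩
      have hd' : a * q⁻¹ * a⁻¹ ∈ Q := hconjmem Q a (hEN ha) _ (inv_mem hq)
      refine ⟨hmem _ (commutator_mem_commutator hq ha), ?_⟩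
      have e1 : ⁅q, a⁆ = q * (a * q⁻¹ * a⁻¹) := by rw [commutatorElement_def]; group
      have e2 : (a * q⁻¹ * a⁻¹) ^ 2 = (q ^ 2)⁻¹ := by
        rw [conj_pow, inv_pow, (mem_centralizer_iff.mp (hEM ha) _ (inv_mem (hsq q hq))).symm,
          mul_inv_cancel_right]
      rw [e1, show 4 = 2 * 2 from rfl, pow_mul, hmul2 _ hq _ hd', e2, mul_inv_cancel, mul_one,
        hcm2 _ hd' _ hq]
    · rintro a b - - ⟨ha, ha4⟩ ⟨hb, hb4⟩
      refine ⟨mul_mem ha hb, ?_⟩
      rw [show 4 = 2 * 2 from rfl, pow_mul, hmul2 a ha b hb,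
        (hMcomm _ (hcm b hb a ha) _ (mul_mem (hsq a ha) (hsq b hb))).mul_pow,
        (hMcomm _ (hsq a ha) _ (hsq b hb)).mul_pow, hcm2 b hb a ha, ← pow_mul, ← pow_mul, ha4, hb4,
        one_mul, one_mul]
    · rintro a - ⟨ha, ha4⟩
      exact ⟨inv_mem ha, by rw [inv_pow, ha4, inv_one]⟩
  -- the involutions
  have nofix : ∀ x ∈ P, d * x * d⁻¹ = x → x = 1 := fun x hx h => by
    have : x ∈ P ⊓ centralizer {d} := mem_inf.mpr ⟨hx, mem_centralizer_singleton_iff.mpr (mul_inv_eq_iff_eq_mul.mp h).symm⟩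
    rwa [hfpf, mem_bot] at this
  let Ω : Subgroup X :=
    { carrier := {x | x ∈ Q ∧ x ^ 2 = 1 ∧ ∀ y ∈ Q, y * x = x * y}
      one_mem' := ⟨one_mem _, one_pow 2, fun y _ => by simp⟩
      mul_mem' := fun {a b} ha hb => ⟨mul_mem ha.1 hb.1, by
        rw [(show Commute a b from hb.2.2 a ha.1).mul_pow, ha.2.1, hb.2.1, one_mul],
        fun y hy => by rw [← mul_assoc, ha.2.2 y hy, mul_assoc, hb.2.2 y hy, mul_assoc]⟩
      inv_mem' := fun {a} ha => ⟨inv_mem ha.1, by rw [inv_pow, ha.2.1, inv_one], fun y hy => by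
        have := ha.2.2 y hy
        exact (Commute.inv_right this).eq⟩ }
  have hΩd : ∀ x ∈ Ω, d * x * d⁻¹ ∈ Ω := fun x hx => by
    refine ⟨hconjmem Q d hdQ x hx.1, by rw [conj_pow, hx.2.1, mul_one, mul_inv_cancel], fun y hy => ?_⟩
    have h1 : d⁻¹ * y * d⁻¹⁻¹ ∈ Q := hconjmem Q d⁻¹ (inv_mem hdQ) y hy
    have h2 := hx.2.2 _ h1
    calc y * (d * x * d⁻¹) = d * ((d⁻¹ * y * d⁻¹⁻¹) * x) * d⁻¹ := by group
      _ = _ := by rw [h2]; group
  have hrankcard : ∀ V : Subgroup X, V ≤ Q → IsMulCommutative V → (∀ v ∈ V, v ^ 2 = 1) →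
      Nat.card V ≤ 4 := fun V hV hc hv => by
    have := hrank V (hV.trans hQP) hc ⊤ ⟨⟨fun a b => Subtype.ext (hc.1.comm a.1 b.1)⟩⟩
      (fun a _ => Subtype.ext (hv a a.2))
    rwa [Subgroup.card_top] at this
  have hΩne : ∃ z ∈ Ω, z ≠ 1 := by
    haveI : Nontrivial Q := by
      rcases subsingleton_or_nontrivial Q with hs | hs
      · exfalso
        exact hMlt (le_antisymm hMQ fun q hq => by
          rw [show q = 1 from congrArg Subtype.val (hs.elim ⟨q, hq⟩ 1)]; exact one_mem _)
      · exact hs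
    haveI := hQ2.center_nontrivial
    obtain ⟨j, hj⟩ := IsPGroup.iff_card.mp (hQ2.to_subgroup (center Q))
    have hj0 : j ≠ 0 := fun h => by
      have : 1 < Nat.card (center Q) := Finite.one_lt_card
      rw [hj, h] at this; simp at this
    obtain ⟨z, hz⟩ := exists_prime_orderOf_dvd_card' (G := center Q) 2 (hj ▸ dvd_pow_self 2 hj0)
    refine ⟨((z : Q) : X), ⟨(z : Q).2, ?_, fun y hy => ?_⟩, fun h => ?_⟩
    · rw [← SubmonoidClass.coe_pow, ← SubmonoidClass.coe_pow, ← hz, pow_orderOf_eq_one]; rfl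
    · exact congrArg Subtype.val (mem_center_iff.mp z.2 ⟨y, hy⟩)
    · have : z = 1 := Subtype.ext (Subtype.ext h)
      rw [this, orderOf_one] at hz
      omega
  have hΩQ : Ω ≤ Q := fun x hx => hx.1
  have hΩcomm : IsMulCommutative Ω := ⟨⟨fun a b => Subtype.ext (b.2.2.2 a a.2.1)⟩⟩
  have hΩ4 : Nat.card Ω = 4 := by
    refine le_antisymm (hrankcard Ω hΩQ hΩcomm fun v hv => hv.2.1) ?_
    obtain ⟨z, hz, hz1⟩ := hΩne
    have hz' := hΩd z hz
    have h1 : d * z * d⁻¹ ≠ z := fun h => hz1 (nofix z (hQP hz.1) h)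
    have h2 : d * z * d⁻¹ ≠ 1 := fun h => hz1 (conj_eq_one_iff.mp h)
    have hzz : z * (d * z * d⁻¹) ≠ 1 := fun h => h1 <| by
      rw [eq_inv_of_mul_eq_one_right h, inv_eq_iff_mul_eq_one, ← pow_two]; exact hz.2.1
    let f : Fin 4 → Ω := ![1, ⟨z, hz⟩, ⟨_, hz'⟩, ⟨_, mul_mem hz hz'⟩]
    have hf : Function.Injective f := by
      have e1 : z * (d * z * d⁻¹) ≠ z := fun h => h2 (mul_eq_left.mp h)
      have e2 : z * (d * z * d⁻¹) ≠ d * z * d⁻¹ := fun h => hz1 (mul_eq_right.mp h)
      intro i j hij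
      have h := congrArg Subtype.val hij
      fin_cases i <;> fin_cases j <;>
        first
          | rfl
          | exact absurd h.symm hz1
          | exact absurd h hz1
          | exact absurd h.symm h1
          | exact absurd h h1
          | exact absurd h.symm h2
          | exact absurd h h2
          | exact absurd h.symm hzz
          | exact absurd h hzz
          | exact absurd h.symm e1
          | exact absurd h e1
          | exact absurd h.symm e2
          | exact absurd h e2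
    have := Nat.card_le_card_of_injective f hf
    rwa [Nat.card_fin] at this
  have hinv : ∀ t ∈ Q, t ^ 2 = 1 → t ∈ Ω := by
    intro t ht ht2
    by_contra hn
    set V := closure (insert t (Ω : Set X)) with hV
    have hc : IsMulCommutative V := by
      refine isMulCommutative_closure ?_
      rintro a ha b hb
      rcases ha with rfl | ha <;> rcases hb with rfl | hb
      · rfl
      · exact hb.2.2 a ht
      · exact (ha.2.2 b ht).symm
      · exact hb.2.2 a ha.1
    have hle : Ω ≤ V := fun x hx => subset_closure (Set.mem_insert_of_mem t hx)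
    have hexpV : ∀ v ∈ V, v ^ 2 = 1 := fun v hv => by
      refine closure_induction (p := fun v _ => v ^ 2 = 1) ?_ (one_pow 2) ?_ ?_ hv
      · rintro a (rfl | ha)
        · exact ht2
        · exact ha.2.1
      · intro a b ha hb ha' hb'
        have hab' : Commute a b := congrArg Subtype.val (hc.1.comm ⟨a, ha⟩ ⟨b, hb⟩)
        rw [hab'.mul_pow, ha', hb', one_mul]
      · intro a _ ha'; rw [inv_pow, ha', inv_one]
    have h4 := hrankcard V ((closure_le _).mpr (Set.insert_subset ht hΩQ)) hc hexpV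
    have := eq_of_le_of_card_ge hle (by rw [hΩ4]; exact h4)
    exact hn (this ▸ subset_closure (Set.mem_insert t _))
  -- upper bound
  have hbound : Nat.card Q ≤ 64 := by
    have hN : Nat.card {x : Q // x ^ 2 = 1} = 4 := by
      rw [← hΩ4]
      exact Nat.card_congr
        { toFun := fun x => ⟨(x.1 : X), hinv _ x.1.2 (congrArg Subtype.val x.2)⟩
          invFun := fun x => ⟨⟨x.1, x.2.1⟩, Subtype.ext x.2.2.1⟩
          left_inv := fun x => rfl
          right_inv := fun x => rfl }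
    have h := (InvolutionBound.card_le_cube hQ2 (fun x y z => Subtype.ext (hMC _ (hcm x x.2 y y.2) z z.2))
      (fun x => Subtype.ext (hexp x x.2)) fun x y hx hy => Subtype.ext <| by
        have hx' := hinv _ x.2 (congrArg Subtype.val hx)
        have hy' := hinv _ y.2 (congrArg Subtype.val hy)
        exact (mul_mem hx' hy').2.1).1
    rw [hN] at h
    exact h
  -- orbit counting
  set C := Q ⊓ centralizer (E : Set X) with hC
  have hCne : C ≠ Q := fun h => hQE (le_centralizer_iff.mp (inf_eq_left.mp h))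
  have hΩC : Ω ≤ C := fun x hx => by
    refine mem_inf.mpr ⟨hx.1, mem_centralizer_iff.mpr fun a ha => ?_⟩
    obtain ⟨i, rfl⟩ := mem_zpowers_iff.mp ha
    refine (Commute.zpow_left ?_ i).eq
    by_cases hx1 : x = 1
    · subst hx1; exact Commute.one_right e
    -- three points
    have hd3 : (d ^ 3) * x * (d ^ 3)⁻¹ = x := by
      have key : ∀ y ∈ Ω, y ≠ 1 → d * y * d⁻¹ ≠ y := fun y hy hy1 h => hy1 (nofix y (hQP hy.1) h)
      set a := d * x * d⁻¹ with ha'
      set b := d * a * d⁻¹ with hb'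
      have ha : a ∈ Ω := hΩd x hx
      have hb : b ∈ Ω := hΩd a ha
      have ha1 : a ≠ 1 := fun h => hx1 (conj_eq_one_iff.mp h)
      have hb1 : b ≠ 1 := fun h => ha1 (conj_eq_one_iff.mp h)
      have hxa : a ≠ x := key x hx hx1
      have hab : b ≠ a := key a ha ha1
      have h3 : d ^ 3 * x * (d ^ 3)⁻¹ = d * b * d⁻¹ := by rw [hb', ha', pow_succ, pow_two]; group
      rw [h3]
      by_cases hbx : b = x
      · exfalso
        -- then the square of `d` fixes `x`, hence so does `d`
        have hc : Commute (d ^ 2) x := mul_inv_eq_iff_eq_mul.mp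
          (show d ^ 2 * x * (d ^ 2)⁻¹ = x by rw [pow_two]; refine Eq.trans ?_ hbx; rw [hb', ha']; group)
        have hod : Odd (orderOf d) := hd ▸ Odd.pow (by decide)
        obtain ⟨r, hr⟩ := hod
        have hd' : d = (d ^ 2) ^ (r + 1) := by
          rw [← pow_mul, show 2 * (r + 1) = (2 * r + 1) + 1 by ring, ← hr, pow_succ, pow_orderOf_eq_one,
            one_mul]
        exact hxa (show d * x * d⁻¹ = x from mul_inv_eq_iff_eq_mul.mpr (by
          rw [hd']; exact (hc.pow_left _).eq))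
      have hc' : d * b * d⁻¹ ∈ Ω := hΩd b hb
      have hc1 : d * b * d⁻¹ ≠ 1 := fun h => hb1 (conj_eq_one_iff.mp h)
      have hcb : d * b * d⁻¹ ≠ b := key b hb hb1
      have hca : d * b * d⁻¹ ≠ a := fun h => hbx (by
        exact mul_left_cancel (mul_right_cancel (h.trans ha')))
      by_contra hne'
      let f : Fin 5 → Ω := ![1, ⟨x, hx⟩, ⟨a, ha⟩, ⟨b, hb⟩, ⟨_, hc'⟩]
      have hf : Function.Injective f := by
        intro i j hij
        have h := congrArg Subtype.val hij
        fin_cases i <;> fin_cases j <;>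
          first
            | rfl
            | exact absurd h.symm hx1
            | exact absurd h hx1
            | exact absurd h.symm ha1
            | exact absurd h ha1
            | exact absurd h.symm hb1
            | exact absurd h hb1
            | exact absurd h.symm hc1
            | exact absurd h hc1
            | exact absurd h.symm hxa
            | exact absurd h hxa
            | exact absurd h.symm hab
            | exact absurd h hab
            | exact absurd h.symm hbx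
            | exact absurd h hbx
            | exact absurd h.symm hcb
            | exact absurd h hcb
            | exact absurd h.symm hca
            | exact absurd h hca
            | exact absurd h.symm hne'
            | exact absurd h hne'
      have := Nat.card_le_card_of_injective f hf
      rw [Nat.card_fin, hΩ4] at this
      omega
    have h3' : Commute (d ^ 3) x := mul_inv_eq_iff_eq_mul.mp hd3
    have : e = (d ^ 3) ^ (3 ^ m) := by rw [he, ← pow_mul, ← pow_succ']
    rw [this]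
    exact h3'.pow_left _
  -- free action outside `C`
  let Y := {x : X // x ∈ Q ∧ x ∉ C}
  have hmemC : ∀ g ∈ zpowers d, ∀ x, x ∈ C → g * x * g⁻¹ ∈ C := by
    intro g hg x hx
    obtain ⟨hxQ, hxE⟩ := mem_inf.mp hx
    refine mem_inf.mpr ⟨hconjmem Q g ((zpowers_le.mpr hdQ) hg) x hxQ, mem_centralizer_iff.mpr fun a ha => ?_⟩
    have hga : Commute g a := by
      obtain ⟨i, rfl⟩ := mem_zpowers_iff.mp hg
      obtain ⟨j, rfl⟩ := mem_zpowers_iff.mp ((zpowers_le.mpr hEd) ha)
      exact (Commute.refl d).zpow_zpow i j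
    have hax : Commute a x := mem_centralizer_iff.mp hxE a ha
    exact ((hga.symm.mul_right hax).mul_right hga.symm.inv_right).eq
  letI : MulAction (zpowers d) Y :=
    { smul := fun g y => ⟨(g : X) * y.1 * (g : X)⁻¹, hconjmem Q g ((zpowers_le.mpr hdQ) g.2) _ y.2.1,
        fun h => y.2.2 (by
          have := hmemC _ (inv_mem g.2) _ h
          simpa [mul_assoc] using this)⟩
      one_smul := fun y => Subtype.ext (by
        show ((1 : zpowers d) : X) * y.1 * ((1 : zpowers d) : X)⁻¹ = y.1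
        simp)
      mul_smul := fun a b y => Subtype.ext (by
        show ((a * b : zpowers d) : X) * y.1 * ((a * b : zpowers d) : X)⁻¹ =
          (a : X) * ((b : X) * y.1 * (b : X)⁻¹) * (a : X)⁻¹
        simp [mul_assoc]) }
  have hfree : ∀ y : Y, MulAction.stabilizer (zpowers d) y = ⊥ := by
    intro y
    by_contra hne'
    obtain ⟨⟨g, hgs⟩, hg1⟩ := (ne_bot_iff_exists_ne_one).mp hne'
    have hfix : Commute (g : X) y.1 :=
      mul_inv_eq_iff_eq_mul.mp (congrArg Subtype.val (MulAction.mem_stabilizer_iff.mp hgs))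
    have hgd : (g : X) ∈ zpowers d := g.2
    have hgne : (g : X) ≠ 1 := fun h => hg1 (Subtype.ext (Subtype.ext h))
    obtain ⟨i, hi⟩ := (Submonoid.mem_powers_iff _ _).mp (mem_powers_iff_mem_zpowers.mpr hgd)
    have hog : orderOf (g : X) ∣ 3 ^ (m + 2) := by
      rw [← hd, ← hi]; exact orderOf_pow_dvd i
    obtain ⟨j, hj, hj'⟩ := (Nat.dvd_prime_pow (by norm_num)).mp hog
    -- the subgroup of order three is generated by a power of `g`
    have hem : e ∈ zpowers (g : X) := by
      have h3 : E ≤ zpowers d := zpowers_le.mpr hEd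
      have hj1 : 1 ≤ j := Nat.one_le_iff_ne_zero.mpr fun h0 => hgne (orderOf_eq_one_iff.mp (by rw [hj', h0, pow_zero]))
      have hsub : ∀ (K : Subgroup X), K ≤ zpowers d → 3 ∣ Nat.card K → e ∈ K := by
        intro K hK h3K
        obtain ⟨z, hz⟩ := exists_prime_orderOf_dvd_card' (G := K) 3 h3K
        have hzd : (z : X) ∈ zpowers d := hK z.2
        obtain ⟨r, hr⟩ := (Submonoid.mem_powers_iff _ _).mp (mem_powers_iff_mem_zpowers.mpr hzd)
        have hz3 : orderOf (z : X) = 3 := by rw [Subgroup.orderOf_coe, hz]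
        have hzr : d ^ (r * 3) = 1 := by rw [pow_mul, hr, ← hz3, pow_orderOf_eq_one]
        have hdiv := orderOf_dvd_of_pow_eq_one hzr
        rw [hd, pow_succ, Nat.mul_dvd_mul_iff_right (by norm_num)] at hdiv
        obtain ⟨r', rfl⟩ := hdiv
        have hzE : (z : X) ∈ E := by rw [← hr, pow_mul, ← he]; exact pow_mem (mem_zpowers e) r'
        have heq : zpowers (z : X) = E := eq_of_le_of_card_ge (zpowers_le.mpr hzE) (by
          rw [hE, Nat.card_zpowers, Nat.card_zpowers, he3, hz3])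
        exact (zpowers_le.mpr z.2) (heq ▸ mem_zpowers e)
      exact hsub _ (zpowers_le.mpr hgd) (by rw [Nat.card_zpowers, hj']; exact dvd_pow_self 3 (by omega))
    obtain ⟨z, hz⟩ := mem_zpowers_iff.mp hem
    refine y.2.2 (mem_inf.mpr ⟨y.2.1, mem_centralizer_iff.mpr fun a ha => ?_⟩)
    obtain ⟨i, rfl⟩ := mem_zpowers_iff.mp ha
    exact ((hz ▸ hfix.zpow_left z : Commute e y.1).zpow_left i).eq
  have hdvd : 3 ^ (m + 2) ∣ Nat.card Y := by
    rw [Nat.card_congr (MulAction.selfEquivOrbitsQuotientProd hfree), Nat.card_prod, Nat.card_zpowers, hd]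
    exact dvd_mul_left _ _
  have hY : Nat.card Q = Nat.card C + Nat.card Y := by
    classical
    have e1 : Q ≃ {x : Q // (x : X) ∈ C} ⊕ {x : Q // (x : X) ∉ C} := (Equiv.sumCompl _).symm
    rw [Nat.card_congr e1, Nat.card_sum]
    congr 1
    · exact Nat.card_congr ⟨fun x => ⟨x.1, x.2⟩, fun x => ⟨⟨x.1, (mem_inf.mp x.2).1⟩, x.2⟩, fun _ => rfl, fun _ => rfl⟩
    · exact Nat.card_congr ⟨fun x => ⟨x.1, x.1.2, x.2⟩, fun x => ⟨⟨x.1, x.2.1⟩, x.2.2⟩, fun _ => rfl, fun _ => rfl⟩
  obtain ⟨a, ha⟩ := IsPGroup.iff_card.mp hQ2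
  obtain ⟨b, hb⟩ := IsPGroup.iff_card.mp (hQ2.to_le (inf_le_left : C ≤ Q))
  have hb2 : 2 ≤ b := by
    have := card_le_of_le hΩC
    rw [hΩ4, hb] at this
    exact (Nat.pow_le_pow_iff_right (le_refl 2)).mp (by simpa using this)
  have hba : b < a := by
    by_contra hge
    exact hCne (eq_of_le_of_card_ge inf_le_left (by rw [ha, hb]; exact Nat.pow_le_pow_right (by norm_num) (by omega)))
  have ha6 : a ≤ 6 := (Nat.pow_le_pow_iff_right (le_refl 2)).mp (by rw [← ha]; exact hbound)
  have h9 : 9 ∣ 2 ^ a - 2 ^ b := by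
    rw [← ha, ← hb, hY, Nat.add_sub_cancel_left]
    exact (dvd_trans (pow_dvd_pow 3 (show 2 ≤ m + 2 by omega)) hdvd)
  interval_cases a <;> interval_cases b <;> norm_num at h9

end Cfsg.Agent.Lib.RankTwoThree
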